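import Cfsg.Agent.H697.Alm.Defs
import Cfsg.Agent.H717.Dickson
import Cfsg.Agent.S2119

/-!
# S4790, T9: coprime projective representations of degree two (helper680)
-/

set_option autoImplicit false

namespace Cfsg.Agent.H680.S4790

open Subgroup

universe u

theorem comm_top_of_surj {P Q : Type*} [Group P] [Group Q] (f : P →* Q) (hf : Function.Surjective f)
    (h : commutator P = ⊤) : commutator Q = ⊤ := by
  rw [commutator_def] at h ⊢
  rw [← map_top_of_surjective f hf, ← map_commutator, h]

theorem not_perf_a4 : commutator (alternatingGroup (Fin 4)) ≠ ⊤ := by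
  intro h
  have h4 : Nat.card (Fin 4) = 4 := by simp
  have h1 := alternatingGroup.kleinFour_eq_commutator h4
  have h2 := (alternatingGroup.kleinFour_isKleinFour h4).card_four
  rw [h1, h, card_top, nat_card_alternatingGroup, Nat.card_eq_fintype_card, Fintype.card_fin] at h2
  revert h2
  decide

theorem not_perf_s4 : commutator (Equiv.Perm (Fin 4)) ≠ ⊤ := by
  intro h
  have h1 : commutator (Equiv.Perm (Fin 4)) ≤ (Equiv.Perm.sign (α := Fin 4)).ker := by
    rw [commutator_def, commutator_le]
    intro a _ b _
    rw [MonoidHom.mem_ker, map_commutatorElement, commutatorElement_eq_one_iff_mul_comm]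
    exact mul_comm _ _
  rw [h, top_le_iff] at h1
  have h2 : Equiv.swap (0 : Fin 4) 1 ∈ (Equiv.Perm.sign (α := Fin 4)).ker := by rw [h1]; exact mem_top _
  rw [MonoidHom.mem_ker] at h2
  revert h2
  decide

/-- **T9.** -/
theorem two {p : ℕ} (hp : p.Prime) (h7 : 7 ≤ p) (T : Type u) [Group T] [Finite T] [IsSimpleGroup T]
    (h : ¬ IsMulCommutative T) (hR : H698.Rep.{u, u} p 2 T) : Nat.card T = 60 ∧ Nat.card (MulAut T) ≤ 120 := by
  obtain ⟨F, _, _, _, P, _, _, π, ρ, hπ, hker, hperf, hρ, hcop⟩ := hR
  have : Fact p.Prime := ⟨hp⟩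
  let act : DistribMulAction P (Fin 2 → F) :=
    { smul := fun g v => ((ρ g : Matrix.GeneralLinearGroup (Fin 2) F) : Matrix (Fin 2) (Fin 2) F).mulVec v
      one_smul := fun v => by
        show ((ρ 1 : Matrix.GeneralLinearGroup (Fin 2) F) : Matrix (Fin 2) (Fin 2) F).mulVec v = v
        rw [map_one, Units.val_one, Matrix.one_mulVec]
      mul_smul := fun g g' v => by
        show ((ρ (g * g') : Matrix.GeneralLinearGroup (Fin 2) F) : Matrix (Fin 2) (Fin 2) F).mulVec v = _
        rw [map_mul, Units.val_mul, ← Matrix.mulVec_mulVec]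
        rfl
      smul_zero := fun g => Matrix.mulVec_zero _
      smul_add := fun g v w => Matrix.mulVec_add _ _ _ }
  have hact : ∀ (g : P) (v : Fin 2 → F), g • v =
      ((ρ g : Matrix.GeneralLinearGroup (Fin 2) F) : Matrix (Fin 2) (Fin 2) F).mulVec v := fun _ _ => rfl
  have hmat : ∀ (A B : Matrix (Fin 2) (Fin 2) F), (∀ v, A.mulVec v = B.mulVec v) → A = B := by
    intro A B hAB
    exact Matrix.toLin'.injective (LinearMap.ext fun v => by
      rw [Matrix.toLin'_apply, Matrix.toLin'_apply]; exact hAB v)
  have hfs : FaithfulSMul P (Fin 2 → F) := ⟨fun {x y} hxy => hρ (Units.ext (hmat _ _ hxy))⟩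
  obtain ⟨Z, hZn, hZ, hcases⟩ := H717.Dickson.cases (K := F) p (D := P) (E := Fin 2 → F) (by simp)
    (fun d c e => by rw [hact, hact, Matrix.mulVec_smul]) hcop
  have hZc : Z ≤ center P := by
    intro z hz
    obtain ⟨c, hc⟩ := (hZ z).1 hz
    rw [mem_center_iff]
    intro g
    refine hfs.eq_of_smul_eq_smul fun v => ?_
    rw [mul_smul, mul_smul, hc, hc, hact, hact, Matrix.mulVec_smul]
  have hperfZ : commutator (P ⧸ Z) = ⊤ := comm_top_of_surj (QuotientGroup.mk' Z) (QuotientGroup.mk'_surjective Z) hperf
  have hcT : center T = ⊥ := by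
    rcases IsSimpleGroup.eq_bot_or_eq_top_of_normal (center T) inferInstance with h1 | h1
    · exact h1
    · exact absurd ⟨⟨fun a b => (mem_center_iff.1 (h1 ▸ mem_top b) a)⟩⟩ h
  rcases hcases with ⟨B, hBn, hBc, hBi, -⟩ | ⟨⟨g⟩⟩ | ⟨⟨g⟩⟩ | ⟨⟨g⟩⟩
  · exfalso
    have h1 : commutator P ≤ B := by
      rw [commutator_def, commutator_le]
      intro x _ y _
      have h3 : Nat.card (P ⧸ B) ∣ 2 := hBi
      have h4 : ∀ u v : P ⧸ B, u * v = v * u := by
        rcases (Nat.dvd_prime Nat.prime_two).1 h3 with h5 | h5
        · have := (Nat.card_eq_one_iff_unique.1 h5).1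
          exact fun u v => Subsingleton.elim _ _
        · have : Fact (Nat.Prime 2) := ⟨Nat.prime_two⟩
          have hcyc : IsCyclic (P ⧸ B) := isCyclic_of_prime_card h5
          exact fun u v => (IsCyclic.commGroup (α := P ⧸ B)).mul_comm u v
      rw [← QuotientGroup.eq_one_iff]
      rw [← QuotientGroup.mk'_apply, map_commutatorElement, commutatorElement_eq_one_iff_mul_comm]
      exact h4 _ _
    rw [hperf, top_le_iff] at h1
    refine h ⟨⟨fun a b => ?_⟩⟩
    obtain ⟨x, rfl⟩ := hπ a
    obtain ⟨y, rfl⟩ := hπ b
    rw [← map_mul, ← map_mul, hBc x (h1 ▸ mem_top x) y (h1 ▸ mem_top y)]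
  · exact absurd (comm_top_of_surj g.toMonoidHom g.surjective hperfZ) not_perf_a4
  · exact absurd (comm_top_of_surj g.toMonoidHom g.surjective hperfZ) not_perf_s4
  · have hcA : center (alternatingGroup (Fin 5)) = ⊥ := by
      have hs : IsSimpleGroup (alternatingGroup (Fin 5)) := alternatingGroup.isSimpleGroup (by simp)
      rcases hs.eq_bot_or_eq_top_of_normal (center (alternatingGroup (Fin 5))) inferInstance with h1 | h1
      · exact h1
      · exfalso
        have h2 := comm_top_of_surj g.toMonoidHom g.surjective hperfZ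
        have h3 : commutator (alternatingGroup (Fin 5)) = ⊥ := by
          rw [_root_.commutator_def, commutator_eq_bot_iff_le_centralizer]
          intro x _
          rw [mem_centralizer_iff]
          intro y _
          exact mem_center_iff.1 (h1 ▸ mem_top x) y
        rw [h2] at h3
        exact top_ne_bot h3
    have h1 : π.ker = Z := by
      apply le_antisymm
      · intro x hx
        have h2 : g (QuotientGroup.mk' Z x) ∈ center (alternatingGroup (Fin 5)) := by
          rw [mem_center_iff]
          intro y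
          obtain ⟨w, rfl⟩ := g.surjective y
          obtain ⟨w, rfl⟩ := QuotientGroup.mk'_surjective Z w
          rw [← map_mul, ← map_mul, ← map_mul, ← map_mul, mem_center_iff.1 (hker hx) w]
        rw [hcA, mem_bot] at h2
        have h3 : QuotientGroup.mk' Z x = 1 := by
          rw [← map_one g] at h2
          exact g.injective h2
        exact (QuotientGroup.eq_one_iff x).1 h3
      · intro x hx
        have h2 : π x ∈ center T := by
          rw [mem_center_iff]
          intro y
          obtain ⟨w, rfl⟩ := hπ y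
          rw [← map_mul, ← map_mul, mem_center_iff.1 (hZc hx) w]
        rw [hcT, mem_bot] at h2
        exact h2
    have e : T ≃* alternatingGroup (Fin 5) :=
      ((QuotientGroup.quotientMulEquivOfEq h1.symm).trans
        (QuotientGroup.quotientKerEquivOfSurjective π hπ)).symm.trans g
    constructor
    · rw [Nat.card_congr e.toEquiv, nat_card_alternatingGroup, Nat.card_eq_fintype_card, Fintype.card_fin]
      decide
    · have h3 : Nat.card (MulAut (alternatingGroup (Fin 5))) = 120 := by
        rw [← Nat.card_congr (Equiv.ofBijective _ (Cfsg.Agent.S2119.result 5 (by norm_num) (by norm_num))),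
          Nat.card_eq_fintype_card, Fintype.card_perm, Fintype.card_fin]
        decide
      rw [Nat.card_congr (MulAut.congr e).toEquiv, h3]

end Cfsg.Agent.H680.S4790
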